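import Cfsg.Agent.Lib.Small.Hermitian

/-!
The field with four elements and its involution.
-/

set_option autoImplicit false
set_option linter.unusedSectionVars false

namespace Cfsg.Agent.Small.SUPres.Two

variable {F : Type*} [Field F] [Fintype F] [StarRing F] (hstar : ∀ x : F, star x = x ^ 2)
  (hF : Fintype.card F = 2 ^ 2)

include hF

theorem pow_three {x : F} (hx : x ≠ 0) : x ^ 3 = 1 := by
  have := FiniteField.pow_card_sub_one_eq_one x hx
  rwa [hF] at this

theorem two_eq_zero : (1 + 1 : F) = 0 := by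
  by_contra h
  have h1 : (-1 : F) ^ 3 = 1 := pow_three hF (neg_ne_zero.2 one_ne_zero)
  apply h
  linear_combination -h1

theorem add_self (x : F) : x + x = 0 := by linear_combination x * two_eq_zero hF

theorem neg_self (x : F) : -x = x := by linear_combination -x * two_eq_zero hF

theorem sub_eq (x y : F) : x - y = x + y := by rw [sub_eq_add_neg, neg_self hF]

include hstar in
theorem norm_one {x : F} (hx : x ≠ 0) : star x * x = 1 := by
  rw [hstar, ← pow_succ, pow_three hF hx]

theorem exists_omega : ∃ w : F, w ^ 2 = w + 1 ∧ w ≠ 0 ∧ w ≠ 1 ∧ ∀ z : F, z ≠ 0 → z = 1 ∨ z = w ∨ z = w ^ 2 := by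
  classical
  obtain ⟨w, hw⟩ : ∃ w : F, w ∉ ({0, 1} : Finset F) := by
    by_contra! h
    have := Finset.card_le_card (fun x _ => h x : (Finset.univ : Finset F) ⊆ {0, 1})
    rw [Finset.card_univ, hF] at this
    have h2 := Finset.card_le_two (a := (0 : F)) (b := 1)
    omega
  simp only [Finset.mem_insert, Finset.mem_singleton, not_or] at hw
  obtain ⟨h0, h1⟩ := hw
  have h3 := pow_three hF h0
  have hq : w ^ 2 + w + 1 = 0 := by
    have : (w - 1) * (w ^ 2 + w + 1) = 0 := by linear_combination h3
    exact (mul_eq_zero.1 this).resolve_left (sub_ne_zero.2 h1)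
  refine ⟨w, by linear_combination hq - (w + 1) * two_eq_zero hF, h0, h1, fun z hz => ?_⟩
  have hz3 := pow_three hF hz
  have : (z - 1) * ((z - w) * (z - w ^ 2)) = 0 := by
    linear_combination hz3 + (z - z ^ 2) * hq + (z - 1) * h3
  rcases mul_eq_zero.1 this with h | h
  · exact Or.inl (sub_eq_zero.1 h)
  rcases mul_eq_zero.1 h with h | h
  · exact Or.inr (Or.inl (sub_eq_zero.1 h))
  · exact Or.inr (Or.inr (sub_eq_zero.1 h))

end Cfsg.Agent.Small.SUPres.Two
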