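import Cfsg.Agent.Lib.Small.SUPres.Graph
import Cfsg.Agent.Lib.Small.SUPres.Two.Field

/-!
Squares in the orthogonality graph over the field with four elements in dimensions five and six.
-/

set_option autoImplicit false
set_option linter.unusedSectionVars false
set_option linter.style.haveILetI false

namespace Cfsg.Agent.Small.SUPres

open Matrix Cfsg.Agent.Small.Unitary Cfsg.Agent.Small.UCover

variable {F : Type*} [Field F] [Fintype F] [StarRing F]

/-- The coordinates of the second vertex of the exceptional square. -/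
def repB (i : ℕ) : F := if i = 5 ∨ i = 0 ∨ i = 1 then 1 else 0

/-- The coordinates of the fourth vertex of the exceptional square. -/
def repV (l : F) (i : ℕ) : F := if i = 4 ∨ i = 2 then 1 else if i = 3 then l else 0

namespace Two

variable {n : ℕ} {hstar : ∀ x : F, star x = x ^ 2} (hF : Fintype.card F = 2 ^ 2)

theorem herm_sum_right {ι : Type*} [Fintype ι] (x : Fin n → F) (c : ι → F) (f : ι → Fin n → F) :
    herm x (∑ i, c i • f i) = ∑ i, c i * herm x (f i) := by
  simp only [herm, dotProduct_sum, dotProduct_smul, smul_eq_mul]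

/-- Projection to the perpendicular space. -/
theorem exists_proj {k : ℕ} {f : Fin k → Fin n → F} (hf : ON f) (z : Fin n → F) :
    ∃ x, (∀ i, herm (f i) x = 0) ∧ (∀ y, (∀ i, herm (f i) y = 0) → herm y x = herm y z) ∧
      z = x + ∑ i, herm (f i) z • f i := by
  refine ⟨z - ∑ i, herm (f i) z • f i, fun j => ?_, fun y hy => ?_, (sub_add_cancel _ _).symm⟩
  · rw [herm_sub_right, herm_sum_right, Finset.sum_eq_single j (fun i _ hij => by rw [hf, if_neg hij.symm, mul_zero])
      (by simp), hf, if_pos rfl, mul_one, sub_self]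
  · rw [herm_sub_right, herm_sum_right, Finset.sum_eq_zero (fun i _ => by rw [herm_comm_zero (hy i), mul_zero]),
      sub_zero]

theorem exists_dual {w : Fin n → F} (hw : w ≠ 0) : ∃ z, herm w z = 1 := by
  obtain ⟨i, hi⟩ := Function.ne_iff.1 hw
  exact ⟨Pi.single i (star (w i))⁻¹, by rw [herm_single_right, mul_inv_cancel₀ (star_ne_zero.2 hi)]⟩

/-- An isotropic vector perpendicular to a family is paired with a vector perpendicular to it. -/
theorem exists_pairing {k : ℕ} {f : Fin k → Fin n → F} (hf : ON f) {s : Fin n → F} (hs : s ≠ 0)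
    (hfs : ∀ i, herm (f i) s = 0) : ∃ x, (∀ i, herm (f i) x = 0) ∧ herm s x = 1 := by
  obtain ⟨z, hz⟩ := exists_dual hs
  obtain ⟨x, h1, h2, -⟩ := exists_proj hf z
  exact ⟨x, h1, (h2 s hfs).trans hz⟩

include hstar hF

/-- An isotropic vector is a sum of two orthogonal vectors of norm one. -/
theorem exists_split {r x : Fin n → F} (hr : herm r r = 0) (hx : herm r x = 1) :
    ∃ y u, r = y + u ∧ herm y y = 1 ∧ herm u u = 1 ∧ herm y u = 0 ∧
      ∀ z, herm z r = 0 → herm z x = 0 → herm z y = 0 ∧ herm z u = 0 := by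
  obtain ⟨c, hc⟩ := Unitary.exists_trace hstar hF (r := 1 - herm x x) (by rw [star_sub, star_one, star_herm])
  have hxr : herm x r = 1 := by rw [← star_herm, hx, star_one]
  set y := x + c • r with hy
  have hry : herm r y = 1 := by rw [hy, herm_add_right, herm_smul_right, hx, hr, mul_zero, add_zero]
  have hyr : herm y r = 1 := by rw [← star_herm, hry, star_one]
  have hyy : herm y y = 1 := by
    rw [hy, herm_add_left, herm_add_right, herm_add_right, herm_smul_left, herm_smul_left, herm_smul_right,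
      herm_smul_right, hr, hx, hxr]
    linear_combination hc
  refine ⟨y, r - y, (add_sub_cancel _ _).symm, hyy, ?_, ?_, fun z h1 h2 => ?_⟩
  · rw [herm_sub_left, herm_sub_right, herm_sub_right, hr, hry, hyr, hyy]
    linear_combination -two_eq_zero hF
  · rw [herm_sub_right, hyr, hyy, sub_self]
  · have : herm z y = 0 := by rw [hy, herm_add_right, herm_smul_right, h1, h2, mul_zero, add_zero]
    exact ⟨this, by rw [herm_sub_right, h1, this, sub_zero]⟩

variable {H : Type*} [Group H] (D : CoverData H (Cfsg.SU n F 2) (UVec n hstar)) (hadj : D.adj = Orth)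
  (htri : D.TriOK) (hn : n = 5 ∨ n = 6)
include hadj htri hn

theorem agree_prop {a b v v' : UVec n hstar} (hav : Orth a v) (hvb : Orth v b) {c : F} (hc : v'.1 = c • v.1) :
    D.Agree a b v v' := by
  obtain ⟨x, ⟨h1, h2⟩, ⟨-, h3⟩, -⟩ := exists_via_three hstar hF (by omega) (a := a) (b := v) (c := b) hav
  refine D.agree_of_apex (x := x) htri (by rw [hadj]; exact orth_symm h1) (by rw [hadj]; exact h3)
    (by rw [hadj]; exact orth_symm h2) (by
      rw [hadj]
      show herm x.1 v'.1 = 0
      rw [hc, herm_smul_right, h2, mul_zero])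

/-- The normalised squares. -/
theorem agree_normal
    (hrep : n = 6 → ∀ l : F, star l * l = 1 → ∀ A B W W' : UVec n hstar,
      (∀ i : Fin n, A.1 i = if (i : ℕ) = 5 then 1 else 0) → (∀ i : Fin n, B.1 i = repB i) →
      (∀ i : Fin n, W.1 i = if (i : ℕ) = 4 then 1 else 0) → (∀ i : Fin n, W'.1 i = repV l i) →
      D.Agree A B W W')
    {a b v v' : UVec n hstar} (hav : Orth a v) (hvb : Orth v b) (hav' : Orth a v') (hvb' : Orth v' b)
    (hab : herm a.1 b.1 = 1) (hvv : herm v.1 v'.1 = 1) : D.Agree a b v v' := by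
  have hba : herm b.1 a.1 = 1 := by rw [← star_herm, hab, star_one]
  have hv'v : herm v'.1 v.1 = 1 := by rw [← star_herm, hvv, star_one]
  set r := b.1 - a.1 with hr
  set s := v'.1 - v.1 with hs
  have har : herm a.1 r = 0 := by rw [hr, herm_sub_right, hab, a.2, sub_self]
  have hvs : herm v.1 s = 0 := by rw [hs, herm_sub_right, hvv, v.2, sub_self]
  have hvr : herm v.1 r = 0 := by rw [hr, herm_sub_right, hvb, orth_symm hav, sub_self]
  have has : herm a.1 s = 0 := by rw [hs, herm_sub_right, hav', hav, sub_self]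
  have hrr : herm r r = 0 := by
    rw [hr, herm_sub_left, herm_sub_right, herm_sub_right, hab, hba, a.2, b.2]; ring
  have hss : herm s s = 0 := by
    rw [hs, herm_sub_left, herm_sub_right, herm_sub_right, hvv, hv'v, v.2, v'.2]; ring
  have hrs : herm r s = 0 := by
    rw [hr, hs, herm_sub_left, herm_sub_right, herm_sub_right, hav, hav', herm_comm_zero hvb,
      orth_symm hvb']
    ring
  have apex : ∀ x : Fin n → F, herm x x = 1 → herm a.1 x = 0 → herm r x = 0 → herm v.1 x = 0 → herm s x = 0 →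
      D.Agree a b v v' := fun x hx h1 h2 h3 h4 => by
    refine D.agree_of_apex (x := ⟨x, hx⟩) htri (by rw [hadj]; exact h1) ?_ (by rw [hadj]; exact h3) ?_
    · rw [hadj]
      show herm x b.1 = 0
      refine herm_comm_zero ?_
      rw [show b.1 = a.1 + r by rw [hr, add_sub_cancel], herm_add_left, h1, h2, add_zero]
    · rw [hadj]
      show herm x v'.1 = 0
      refine herm_comm_zero ?_
      rw [show v'.1 = v.1 + s by rw [hs, add_sub_cancel], herm_add_left, h3, h4, add_zero]
  by_cases hr0 : r = 0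
  · exact D.agree_swap (agree_prop hF D hadj htri hn (orth_symm hav) hav' (c := 1)
      (by rw [one_smul]; exact sub_eq_zero.1 hr0))
  by_cases hs0 : s = 0
  · exact agree_prop hF D hadj htri hn hav hvb (c := 1) (by rw [one_smul]; exact sub_eq_zero.1 hs0)
  have hf : ON ![a.1, v.1] := on_two a.2 v.2 hav
  obtain ⟨x, hx, hrx⟩ := exists_pairing hf hr0 (fun i => by fin_cases i; exacts [har, hvr])
  obtain ⟨y, u, hyu, hy, hu, hyu', hperp⟩ := exists_split (hstar := hstar) hF hrr hrx
  obtain ⟨hay, hau⟩ := hperp a.1 har (hx 0)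
  obtain ⟨hvy, hvu⟩ := hperp v.1 hvr (hx 1)
  have h4 : ON ![a.1, v.1, y, u] := on_four a.2 v.2 hy hu hav hay hau hvy hvu hyu'
  obtain ⟨w, hw, -, hsw⟩ := exists_proj h4 s
  by_cases hw0 : w = 0
  · obtain ⟨z, hz, hzp⟩ := exists_unit_perp hstar hF h4 (by omega)
    have z0 : herm a.1 z = 0 := hzp 0
    have z1 : herm v.1 z = 0 := hzp 1
    have z2 : herm y z = 0 := hzp 2
    have z3 : herm u z = 0 := hzp 3
    refine apex z hz z0 (by rw [hyu, herm_add_left, z2, z3, add_zero]) z1 ?_
    refine herm_comm_zero ?_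
    rw [hsw, hw0, zero_add, herm_sum_right]
    exact Finset.sum_eq_zero fun i _ => by rw [herm_comm_zero (hzp i), mul_zero]
  -- a vector paired with the first and perpendicular to the second isotropic vector
  obtain ⟨x₃, hx₃, hwx₃⟩ := exists_pairing h4 hw0 hw
  have hsx₃ : herm s x₃ = 1 := by
    rw [hsw, herm_add_left, hwx₃, ← star_herm, herm_sum_right,
      Finset.sum_eq_zero (fun i _ => by rw [herm_comm_zero (hx₃ i), mul_zero]), star_zero, add_zero]
  have hrx₃ : herm r x₃ = 0 := by
    rw [hyu, herm_add_left, show herm y x₃ = 0 from hx₃ 2, show herm u x₃ = 0 from hx₃ 3, add_zero]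
  set x' := y - herm s y • x₃ with hx'
  have hrx' : herm r x' = 1 := by
    rw [hx', herm_sub_right, herm_smul_right, hrx₃, mul_zero, sub_zero, hyu, herm_add_left, hy,
      herm_comm_zero hyu', add_zero]
  have hsx' : herm s x' = 0 := by rw [hx', herm_sub_right, herm_smul_right, hsx₃, mul_one, sub_self]
  obtain ⟨y', u', hyu2, hy', hu', hyu2', hperp'⟩ := exists_split (hstar := hstar) hF hrr hrx'
  obtain ⟨hay', hau'⟩ := hperp' a.1 har (by
    rw [hx', herm_sub_right, herm_smul_right, hay, show herm a.1 x₃ = 0 from hx₃ 0, mul_zero, sub_zero])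
  obtain ⟨hvy', hvu'⟩ := hperp' v.1 hvr (by
    rw [hx', herm_sub_right, herm_smul_right, hvy, show herm v.1 x₃ = 0 from hx₃ 1, mul_zero, sub_zero])
  obtain ⟨hsy', hsu'⟩ := hperp' s (herm_comm_zero hrs) hsx'
  have h4' : ON ![a.1, v.1, y', u'] := on_four a.2 v.2 hy' hu' hav hay' hau' hvy' hvu' hyu2'
  have hs4 : ∀ i, herm (![a.1, v.1, y', u'] i) s = 0 := fun i => by
    fin_cases i
    exacts [has, hvs, herm_comm_zero hsy', herm_comm_zero hsu']
  obtain ⟨x₄, hx₄, hsx₄⟩ := exists_pairing h4' hs0 hs4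
  obtain ⟨t, t', hst', ht, ht', htt', hperp₄⟩ := exists_split (hstar := hstar) hF hss hsx₄
  obtain ⟨p0, p0'⟩ := hperp₄ a.1 has (hx₄ 0)
  obtain ⟨p1, p1'⟩ := hperp₄ v.1 hvs (hx₄ 1)
  obtain ⟨p2, p2'⟩ := hperp₄ y' (hs4 2) (hx₄ 2)
  obtain ⟨p3, p3'⟩ := hperp₄ u' (hs4 3) (hx₄ 3)
  have hts : herm t s = 1 := by rw [hst', herm_add_right, ht, htt', add_zero]
  -- dimension six
  have h6 : ON ![a.1, v.1, y', u', t, t'] := fun i j => by
    fin_cases i <;> fin_cases j <;>
      simp [a.2, v.2, hy', hu', ht, ht', show herm a.1 v.1 = 0 from hav, herm_comm_zero hav, hay', hau', hvy',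
        hvu', hyu2', herm_comm_zero hay', herm_comm_zero hau', herm_comm_zero hvy', herm_comm_zero hvu',
        herm_comm_zero hyu2', p0, p1, p2, p3, p0', p1', p2', p3', htt', herm_comm_zero p0, herm_comm_zero p1,
        herm_comm_zero p2, herm_comm_zero p3, herm_comm_zero p0', herm_comm_zero p1', herm_comm_zero p2',
        herm_comm_zero p3', herm_comm_zero htt']
  have hn6 : n = 6 := by
    have := isotropic_bound h6 ⊥ (fun x hx => by simp [(Submodule.mem_bot F).1 hx, herm_zero_left]) bot_le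
    omega
  subst hn6
  have hstd : ON ![(Pi.single 5 1 : Fin 6 → F), Pi.single 4 1, Pi.single 0 1, Pi.single 1 1, Pi.single 2 1] := by
    intro i j
    fin_cases i <;> fin_cases j <;> simp [herm_single_left, Pi.single_apply]
  obtain ⟨g, hg⟩ := exists_move hstar hF (w := ![a.1, v.1, y', u', t]) hstd
    (fun i j => by
      have := h6 (Fin.castSucc i) (Fin.castSucc j)
      fin_cases i <;> fin_cases j <;> simpa using this) (by omega)
  have g5 : act g (Pi.single 5 1) = a.1 := hg 0
  have g4 : act g (Pi.single 4 1) = v.1 := hg 1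
  have g0 : act g (Pi.single 0 1) = y' := hg 2
  have g1 : act g (Pi.single 1 1) = u' := hg 3
  have g2 : act g (Pi.single 2 1) = t := hg 4
  set s' := act g⁻¹ s with hs'
  have hgs : act g s' = s := act_act_inv g s
  have hco : ∀ i, s' i = herm (act g (Pi.single i 1)) s := fun i => by
    rw [← hgs, herm_act hstar, herm_single_left, star_one, one_mul]
  have c5 : s' 5 = 0 := by rw [hco, g5, has]
  have c4 : s' 4 = 0 := by rw [hco, g4, hvs]
  have c0 : s' 0 = 0 := by rw [hco, g0]; exact hs4 2
  have c1 : s' 1 = 0 := by rw [hco, g1]; exact hs4 3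
  have c2 : s' 2 = 1 := by rw [hco, g2, hts]
  have hl : star (s' 3) * s' 3 = 1 := by
    have := herm_act hstar g s' s'
    rw [hgs, hss] at this
    simp [herm, dotProduct, Fin.sum_univ_six, c0, c1, c2, c4, c5] at this
    linear_combination -this - two_eq_zero hF
  have hA : herm (Pi.single 5 1 : Fin 6 → F) (Pi.single 5 1) = 1 := by simp [herm_single_left]
  have hW : herm (Pi.single 4 1 : Fin 6 → F) (Pi.single 4 1) = 1 := by simp [herm_single_left]
  have hB : herm (fun i : Fin 6 => (repB i : F)) (fun i => repB i) = 1 := by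
    simp [herm, dotProduct, Fin.sum_univ_six, repB, two_eq_zero hF]
  have hV : herm (fun i : Fin 6 => repV (s' 3) i) (fun i => repV (s' 3) i) = 1 := by
    simp [herm, dotProduct, Fin.sum_univ_six, repV, hl, two_eq_zero hF]
  have := D.agree_smul (hrep rfl (s' 3) hl ⟨_, hA⟩ ⟨_, hB⟩ ⟨_, hW⟩ ⟨_, hV⟩
    (fun i => by fin_cases i <;> rfl) (fun i => rfl) (fun i => by fin_cases i <;> rfl) (fun i => rfl)) g
  have hb' : (fun i : Fin 6 => (repB i : F)) = Pi.single 5 1 + (Pi.single 0 1 + Pi.single 1 1) := by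
    funext i; fin_cases i <;> simp [repB]
  have hv' : (fun i : Fin 6 => repV (s' 3) i) = Pi.single 4 1 + s' := by
    funext i; fin_cases i <;> simp [repV, c0, c1, c2, c4, c5]
  convert this using 1
  · exact Subtype.ext g5.symm
  · refine Subtype.ext ?_
    show b.1 = act g _
    simp only [hb', act_add, g5, g0, g1]
    rw [← hyu2, hr, add_sub_cancel]
  · exact Subtype.ext g4.symm
  · refine Subtype.ext ?_
    show v'.1 = act g _
    simp only [hv', act_add, g4, hgs]
    rw [hs, add_sub_cancel]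

/-- All squares agree. -/
theorem agree_two
    (hrep : n = 6 → ∀ l : F, star l * l = 1 → ∀ A B W W' : UVec n hstar,
      (∀ i : Fin n, A.1 i = if (i : ℕ) = 5 then 1 else 0) → (∀ i : Fin n, B.1 i = repB i) →
      (∀ i : Fin n, W.1 i = if (i : ℕ) = 4 then 1 else 0) → (∀ i : Fin n, W'.1 i = repV l i) →
      D.Agree A B W W')
    {a b v v' : UVec n hstar} (hav : Orth a v) (hvb : Orth v b) (hav' : Orth a v') (hvb' : Orth v' b) :
    D.Agree a b v v' := by
  by_cases hab : herm a.1 b.1 = 0
  · exact D.agree_swap (D.agree_of_adj htri (by rw [hadj]; exact hab))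
  by_cases hvv : herm v.1 v'.1 = 0
  · exact D.agree_of_adj htri (by rw [hadj]; exact hvv)
  set d := herm a.1 b.1 with hd
  set e := herm v.1 v'.1 with he
  have hd1 := norm_one hstar hF (inv_ne_zero hab)
  have he1 := norm_one hstar hF (inv_ne_zero hvv)
  let b₁ : UVec n hstar := ⟨d⁻¹ • b.1, by rw [herm_smul_left, herm_smul_right, b.2, mul_one, hd1]⟩
  let v₁ : UVec n hstar := ⟨e⁻¹ • v'.1, by rw [herm_smul_left, herm_smul_right, v'.2, mul_one, he1]⟩
  have hvb₁ : Orth v b₁ := by show herm v.1 (d⁻¹ • b.1) = 0; rw [herm_smul_right, hvb, mul_zero]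
  have hvb₁' : Orth v' b₁ := by show herm v'.1 (d⁻¹ • b.1) = 0; rw [herm_smul_right, hvb', mul_zero]
  have hav₁ : Orth a v₁ := by show herm a.1 (e⁻¹ • v'.1) = 0; rw [herm_smul_right, hav', mul_zero]
  have hvb₁₁ : Orth v₁ b₁ := by
    show herm (e⁻¹ • v'.1) b₁.1 = 0
    rw [herm_smul_left, hvb₁', mul_zero]
  have main : D.Agree a b₁ v v₁ := agree_normal hF D hadj htri hn hrep hav hvb₁ hav₁ hvb₁₁
    (by show herm a.1 (d⁻¹ • b.1) = 1; rw [herm_smul_right, ← hd, inv_mul_cancel₀ hab])
    (by show herm v.1 (e⁻¹ • v'.1) = 1; rw [herm_smul_right, ← he, inv_mul_cancel₀ hvv])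
  have m2 : D.Agree a b₁ v v' := D.agree_trans (w := v₁) (by rw [hadj]; exact hav₁) (by rw [hadj]; exact hvb₁₁)
    main (agree_prop hF D hadj htri hn hav₁ hvb₁₁ (c := e)
      (by show v'.1 = e • e⁻¹ • v'.1; rw [smul_smul, mul_inv_cancel₀ hvv, one_smul]))
  refine D.agree_swap (D.agree_trans (w := b₁) (by rw [hadj]; exact hvb₁) (by rw [hadj]; exact orth_symm hvb₁')
    (D.agree_swap m2) ?_)
  exact agree_prop hF D hadj htri hn hvb₁ (orth_symm hvb₁') (c := d)
    (by show b.1 = d • d⁻¹ • b.1; rw [smul_smul, mul_inv_cancel₀ hab, one_smul])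

end Two

end Cfsg.Agent.Small.SUPres
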