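import Cfsg.Agent.Lib.Small.SUPres.GluePres
import Cfsg.Agent.Lib.Small.SUPres.Two.Field

/-!
Two elements which together with the cyclic permutations generate `SU_3(2)` inside `SU_4(2)`.
-/

set_option autoImplicit false
set_option linter.unusedSectionVars false
set_option linter.style.haveILetI false

namespace Cfsg.Agent.Small.SUPres.Two

open Matrix Cfsg.Agent.Small.Unitary Cfsg.Agent.Small.UCover

variable {F : Type*} [Field F] [Fintype F] [StarRing F] (hstar : ∀ x : F, star x = x ^ 2)
  (hF : Fintype.card F = 2 ^ 2)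

/-- The first matrix. -/
abbrev mH (w : F) : Matrix (Fin 3) (Fin 3) F := !![1, 1, 1; 1, w, w ^ 2; 1, w ^ 2, w]

/-- The second matrix. -/
abbrev mG (w : F) : Matrix (Fin 3) (Fin 3) F := !![1, w, w; w ^ 2, w, w ^ 2; w ^ 2, w ^ 2, w]

/-- The cyclic matrix. -/
abbrev mP : Matrix (Fin 3) (Fin 3) F := !![0, 0, 1; 1, 0, 0; 0, 1, 0]

section

variable {w : F} (hw : w ^ 2 = w + 1) (h2 : (2 : F) = 0)
include hw h2

theorem det_mH : (mH w).det = 1 := by simp [Matrix.det_fin_three]; grind

theorem det_mG : (mG w).det = 1 := by simp [Matrix.det_fin_three]; grind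

include hstar

theorem unit_mH : (mH w)ᴴ * mH w = 1 := by
  ext i j
  fin_cases i <;> fin_cases j <;> simp [Matrix.mul_apply, Fin.sum_univ_three, hstar] <;> grind

theorem unit_mG : (mG w)ᴴ * mG w = 1 := by
  ext i j
  fin_cases i <;> fin_cases j <;> simp [Matrix.mul_apply, Fin.sum_univ_three, hstar] <;> grind

omit hstar

theorem prod_swap : mP * mH w * mH w = !![0, 1, 0; 1, 0, 0; 0, 0, 1] := by
  ext i j
  fin_cases i <;> fin_cases j <;> simp [Matrix.mul_apply, Fin.sum_univ_three] <;> grind

theorem prod_diag : mP * mH w * mH w * mG w * mP * mG w = Matrix.diagonal ![w, w ^ 2, 1] := by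
  rw [prod_swap hw h2]
  ext i j
  fin_cases i <;> fin_cases j <;> simp [Matrix.mul_apply, Fin.sum_univ_three] <;> grind

theorem prod_conj : mP * Matrix.diagonal ![w, w ^ 2, 1] * (mP * mP) = Matrix.diagonal ![1, w, w ^ 2] := by
  ext i j
  fin_cases i <;> fin_cases j <;> simp [Matrix.mul_apply, Fin.sum_univ_three, Matrix.diagonal_apply, Matrix.vecMul, dotProduct]

theorem prod_col : (fun i => (mH w * mG w) i 2) = ![w ^ 2, w, w ^ 2] := by
  funext i
  fin_cases i <;> simp [Matrix.mul_apply, Fin.sum_univ_three] <;> grind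

end

set_option maxHeartbeats 1000000 in
include hstar hF in
/-- Three elements generating the group of degree three. -/
theorem gen_three : ∃ (p h g : Cfsg.SU 3 F 2) (σ : alternatingGroup (Fin 3)),
    p = permHom hstar σ ∧ Subgroup.closure {p, h, g} = ⊤ := by
  classical
  obtain ⟨w, hw, hw0, hw1, hcases⟩ := exists_omega hF
  have t2 : (2 : F) = 0 := by linear_combination two_eq_zero hF
  have hw3 : w ^ 3 = 1 := pow_three hF hw0
  have ts : (3 : F) = 1 := by linear_combination t2
  let H := mH w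
  let G := mG w
  have hH : Hᴴ * H = 1 := unit_mH hstar hw t2
  have hG : Gᴴ * G = 1 := unit_mG hstar hw t2
  have dH : H.det = 1 := det_mH hw t2
  have dG : G.det = 1 := det_mG hw t2
  let h : Cfsg.SU 3 F 2 := mkSU hstar H hH dH
  let g : Cfsg.SU 3 F 2 := mkSU hstar G hG dG
  let σ : alternatingGroup (Fin 3) := ⟨Equiv.swap 0 1 * Equiv.swap 1 2, by
    rw [Equiv.Perm.mem_alternatingGroup]; decide⟩
  let p : Cfsg.SU 3 F 2 := permHom hstar σ
  have hp : p.1.1 = mP := Matrix.ext_of_mulVec_single fun i => by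
    show act (permHom hstar σ) (Pi.single i 1) = _
    rw [act_permHom, Matrix.mulVec_single_one]
    funext j
    fin_cases i <;> fin_cases j <;> simp [σ, Equiv.swap_apply_def]
  refine ⟨p, h, g, σ, rfl, ?_⟩
  set M := Subgroup.closure ({p, h, g} : Set (Cfsg.SU 3 F 2))
  have pM : p ∈ M := Subgroup.subset_closure (by simp)
  have hM : h ∈ M := Subgroup.subset_closure (by simp)
  have gM : g ∈ M := Subgroup.subset_closure (by simp)
  have mc : ∀ x y : Cfsg.SU 3 F 2, (x * y).1.1 = x.1.1 * y.1.1 := fun _ _ => rfl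
  have hd : (p * h * h * g * p * g).1.1 = Matrix.diagonal ![w, w ^ 2, 1] := by
    simp only [mc, hp]
    exact prod_diag hw t2
  have hs : (p * h * h).1.1 = !![0, 1, 0; 1, 0, 0; 0, 0, 1] := by
    simp only [mc, hp]
    exact prod_swap hw t2
  set d := p * h * h * g * p * g with hdd
  have dM : d ∈ M := by
    exact mul_mem (mul_mem (mul_mem (mul_mem (mul_mem pM hM) hM) gM) pM) gM
  set s := p * h * h with hss
  have sM : s ∈ M := mul_mem (mul_mem pM hM) hM
  have he : (p * d * (p * p)).1.1 = Matrix.diagonal ![1, w, w ^ 2] := by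
    simp only [mc, hp, hd]
    exact prod_conj hw t2
  -- the torus
  let T : F → F → Prop := fun a b => ∃ x ∈ M, x.1.1 = Matrix.diagonal ![a, b, (a * b) ^ 2]
  have tmul : ∀ a b a' b', T a b → T a' b' → T (a * a') (b * b') := by
    rintro a b a' b' ⟨x, hx, ex⟩ ⟨y, hy, ey⟩
    refine ⟨x * y, mul_mem hx hy, ?_⟩
    rw [mc, ex, ey, Matrix.diagonal_mul_diagonal]
    congr 1
    funext i
    fin_cases i <;> simp
    ring
  have t1 : T 1 1 := ⟨1, one_mem M, by
    show (1 : Matrix (Fin 3) (Fin 3) F) = _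
    rw [← Matrix.diagonal_one]; congr 1; funext i; fin_cases i <;> simp⟩
  have td : T w (w ^ 2) := ⟨d, dM, by rw [hd]; congr 1; funext i; fin_cases i <;> simp <;> grind⟩
  have te : T 1 w := ⟨p * d * (p * p), mul_mem (mul_mem pM dM) (mul_mem pM pM), by
    rw [he]; congr 1; funext i; fin_cases i <;> simp⟩
  have tall : ∀ a b : F, a ≠ 0 → b ≠ 0 → T a b := by
    intro a b ha hb
    have r : ∀ z : F, z ≠ 0 → T 1 z := fun z hz => by
      rcases hcases z hz with rfl | rfl | rfl
      · exact t1
      · exact te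
      · simpa [sq] using tmul _ _ _ _ te te
    have l : T a 1 := by
      have tw : T w 1 := by simpa [← pow_succ, hw3] using tmul _ _ _ _ td te
      rcases hcases a ha with rfl | rfl | rfl
      · exact t1
      · exact tw
      · simpa [sq] using tmul _ _ _ _ tw tw
    simpa using tmul _ _ _ _ l (r b hb)
  -- the orbit of the last coordinate vector
  let R : (Fin 3 → F) → Prop := fun v => ∃ x ∈ M, act x (Pi.single 2 1) = v
  have rstep : ∀ x ∈ M, ∀ v, R v → R (act x v) := fun x hx v ⟨y, hy, e⟩ =>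
    ⟨x * y, mul_mem hx hy, by rw [act_mul, e]⟩
  have rdiag : ∀ (u v : Fin 3 → F), R u → v 0 ≠ 0 * u 0 → v 1 ≠ 0 * u 1 → u 0 ≠ 0 → u 1 ≠ 0 →
      v 2 = (v 0 / u 0 * (v 1 / u 1)) ^ 2 * u 2 → R v := by
    intro u v hu h0 h1 u0 u1 h2
    obtain ⟨x, hx, ex⟩ := tall (v 0 / u 0) (v 1 / u 1) (div_ne_zero (by simpa using h0) u0)
      (div_ne_zero (by simpa using h1) u1)
    have e : act x u = v := by
      show x.1.1 *ᵥ u = v
      rw [ex]
      funext i
      rw [Matrix.mulVec_diagonal]
      fin_cases i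
      · simp [u0]
      · simp [u1]
      · simpa using h2.symm
    exact e ▸ rstep x hx u hu
  have rall : ∀ v : Fin 3 → F, herm v v = 1 → R v := by
    intro v hv
    have nz : ∀ z : F, star z * z = if z = 0 then 0 else 1 := fun z => by
      split_ifs with h
      · simp [h]
      · exact norm_one hstar hF h
    simp only [herm, dotProduct, Fin.sum_univ_three, Pi.star_apply, nz] at hv
    have base : R (Pi.single 2 1) := ⟨1, one_mem M, act_one _⟩
    have r0 : ∀ a : F, a ≠ 0 → R ![a, 0, 0] := fun a ha => by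
      obtain ⟨x, hx, ex⟩ := tall a 1 ha one_ne_zero
      have e : act x (act p (Pi.single 2 1)) = ![a, 0, 0] := by
        show x.1.1 *ᵥ (p.1.1 *ᵥ _) = _
        rw [ex, hp]
        funext i
        fin_cases i <;> simp [Matrix.mulVec_diagonal, Matrix.mulVec, dotProduct, Fin.sum_univ_three]
      exact e ▸ rstep x hx _ (rstep p pM _ base)
    by_cases a0 : v 0 = 0 <;> by_cases a1 : v 1 = 0 <;> by_cases a2 : v 2 = 0 <;>
      simp [a0, a1, a2, two_eq_zero hF] at hv
    · -- last
      have := rstep p pM _ (rstep p pM _ (r0 (v 2) a2))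
      convert this using 1
      show v = p.1.1 *ᵥ (p.1.1 *ᵥ _)
      funext i
      rw [hp]
      fin_cases i <;> simp [a0, a1, Matrix.mulVec, dotProduct, Fin.sum_univ_three]
    · have := rstep p pM _ (r0 (v 1) a1)
      convert this using 1
      show v = p.1.1 *ᵥ _
      funext i
      rw [hp]
      fin_cases i <;> simp [a0, a2, Matrix.mulVec, dotProduct, Fin.sum_univ_three]
    · convert r0 (v 0) a0 using 1
      funext i
      fin_cases i <;> simp [a1, a2]
    · -- no zero coordinate
      have hc : v 0 * v 1 * v 2 ≠ 0 := mul_ne_zero (mul_ne_zero a0 a1) a2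
      have hv2 : v 2 = (v 0 * v 1) ^ 2 * (v 0 * v 1 * v 2) := by
        linear_combination (-v 2) * pow_three hF (mul_ne_zero a0 a1)
      have key : ∀ u : Fin 3 → F, R u → u 0 ≠ 0 → u 1 ≠ 0 → u 0 * u 1 * u 2 = v 0 * v 1 * v 2 → R v := by
        intro u hu u0 u1 he
        refine rdiag u v hu (by simpa using a0) (by simpa using a1) u0 u1 ?_
        rw [← mul_div_mul_comm, div_pow, div_mul_eq_mul_div, eq_div_iff (pow_ne_zero _ (mul_ne_zero u0 u1))]
        linear_combination (v 0 * v 1) ^ 2 * u 2 * pow_three hF (mul_ne_zero u0 u1) -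
          (u 0 * u 1) ^ 2 * v 2 * pow_three hF (mul_ne_zero a0 a1) -
          (v 0 * v 1) ^ 2 * (u 0 * u 1) ^ 2 * he
      have col : ∀ x : Cfsg.SU 3 F 2, act x (Pi.single 2 1) = fun i => x.1.1 i 2 := fun x => by
        show x.1.1 *ᵥ _ = _
        rw [Matrix.mulVec_single_one]; rfl
      have col1 : act h (Pi.single 2 1) = ![1, w ^ 2, w] := by
        rw [col]; funext i; fin_cases i <;> rfl
      have col2 : act g (Pi.single 2 1) = ![w, w ^ 2, w] := by
        rw [col]; funext i; fin_cases i <;> rfl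
      have col3 : act h (act g (Pi.single 2 1)) = ![w ^ 2, w, w ^ 2] := by
        rw [← act_mul, col, ← prod_col hw t2]; rfl
      have hw2 : w ^ 2 ≠ 0 := pow_ne_zero 2 hw0
      rcases hcases _ hc with e | e | e
      · exact key _ (col1 ▸ rstep h hM _ base) one_ne_zero hw2 (by simp [e, ← pow_succ, hw3])
      · exact key _ (col2 ▸ rstep g gM _ base) hw0 hw2 (by simp [e, ← pow_succ', hw3])
      · exact key _ (col3 ▸ rstep h hM _ (rstep g gM _ base)) hw2 hw0 (by simp [e, ← pow_succ, hw3])
  -- the stabiliser of the last coordinate vector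
  refine eq_top_iff.2 fun x _ => ?_
  obtain ⟨y, hy, ey⟩ := rall (act x (Pi.single 2 1)) (by
    rw [herm_act hstar, herm_single_left, Pi.single_eq_same]; simp)
  set z := y⁻¹ * x with hzdef
  have hz : act z (Pi.single 2 1) = Pi.single 2 1 := by
    rw [hzdef, act_mul, ← ey, act_inv_act]
  suffices zM : z ∈ M by
    rw [show x = y * z by rw [hzdef, mul_inv_cancel_left]]; exact mul_mem hy zM
  have key : ∀ z : Cfsg.SU 3 F 2, act z (Pi.single 2 1) = Pi.single 2 1 → z.1.1 1 0 = 0 → z ∈ M := by
    intro z hz h10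
    have cz : ∀ i j, herm (act z (Pi.single i 1)) (act z (Pi.single j 1)) =
        (Pi.single j (1 : F) : Fin 3 → F) i := fun i j => by
      rw [herm_act hstar, herm_single_left, star_one, one_mul]
    have cl : ∀ i, act z (Pi.single i 1) = fun a => z.1.1 a i := fun i => by
      show z.1.1 *ᵥ _ = _
      rw [Matrix.mulVec_single_one]; rfl
    have c2 : ∀ a, z.1.1 a 2 = (Pi.single 2 (1 : F) : Fin 3 → F) a := fun a => by rw [← hz, cl]
    have r2 : ∀ j, z.1.1 2 j = (Pi.single j (1 : F) : Fin 3 → F) 2 := fun j => by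
      have := cz 2 j
      rw [hz, herm_single_left, star_one, one_mul, cl] at this
      exact this
    have h00 : z.1.1 0 0 ≠ 0 := fun e => by
      have := cz 0 0
      rw [cl] at this
      simp [herm, dotProduct, Fin.sum_univ_three, e, h10, r2] at this
    have h01 : z.1.1 0 1 = 0 := by
      have := cz 0 1
      rw [cl, cl] at this
      simp [herm, dotProduct, Fin.sum_univ_three, h10, r2, h00] at this
      exact this
    have hdet := z.1.2
    rw [Matrix.det_fin_three] at hdet
    simp [h10, h01, r2, c2] at hdet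
    obtain ⟨y, hy, ey⟩ := tall (z.1.1 0 0) (z.1.1 1 1) h00 (fun e => by simp [e] at hdet)
    convert hy using 1
    refine Subtype.ext (Subtype.ext ?_)
    rw [ey]
    ext i j
    fin_cases i <;> fin_cases j <;> simp [h10, h01, r2, c2, hdet]
  by_cases h10 : z.1.1 1 0 = 0
  · exact key z hz h10
  have hsz : act (s * z) (Pi.single 2 1) = Pi.single 2 1 := by
    rw [act_mul, hz]
    show s.1.1 *ᵥ _ = _
    rw [hs]
    funext i
    fin_cases i <;> simp [Matrix.mulVec_single_one]
  have h00 : z.1.1 0 0 = 0 := by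
    by_contra h
    have h1 := herm_act hstar z (Pi.single 0 1) (Pi.single 0 1)
    have h2 := herm_act hstar z (Pi.single 2 1) (Pi.single 0 1)
    rw [hz] at h2
    rw [herm_single_left, herm_single_left, star_one, one_mul] at h2
    rw [herm_single_left, star_one, one_mul] at h1
    simp only [act, Matrix.mulVec_single_one] at h1 h2
    simp [herm, dotProduct, Fin.sum_univ_three, norm_one hstar hF h, norm_one hstar hF h10, two_eq_zero hF] at h1 h2
    simp [h2] at h1
  have : s * z ∈ M := key _ hsz (by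
    rw [mc, hs, Matrix.mul_apply, Fin.sum_univ_three]; simp [h00])
  simpa using mul_mem (inv_mem sM) this

/-- Two generators of the coordinate subgroup on three points. -/
theorem exists_three_gens_two (hstar : ∀ x : F, star x = x ^ 2) (hF : Fintype.card F = 2 ^ 2) :
    ∃ E : Fin 2 → Cfsg.SU 4 F 2, (∀ i, E i ∈ Sk 4 2 3) ∧
      Sk 4 2 3 ≤ Subgroup.closure (Set.range E ∪
        (permHom (q := 2) hstar) '' (lowPerm 4 3 : Set (alternatingGroup (Fin 4)))) := by
  obtain ⟨p, h, g, σ, hp, hgen⟩ := gen_three hstar hF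
  let ι := inclHom (F := F) (q := 2) hstar (by norm_num : 3 ≤ 4)
  have hr : ι.range = Sk 4 2 3 := range_inclHom (q := 2) hstar (by norm_num)
  refine ⟨![ι h, ι g], fun i => ?_, ?_⟩
  · fin_cases i <;> exact hr ▸ ⟨_, rfl⟩
  let a : alternatingGroup (Fin 4) := AltDeg.emb (Fin.castLEEmb (by norm_num : 3 ≤ 4)) σ
  have hap : ∀ i : Fin 3, a.1 (Fin.castLE (by norm_num) i) = Fin.castLE (by norm_num) (σ.1 i) := fun i =>
    AltDeg.emb_apply (Fin.castLEEmb (by norm_num)) σ i
  have h3 : a ∈ lowPerm 4 3 := fun i hi => AltDeg.emb_supp (Fin.castLEEmb (by norm_num)) σ i fun h => by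
    obtain ⟨j, rfl⟩ := AltDeg.mem_pts.1 h
    have := j.isLt
    simp at hi
    omega
  have ha : ι p = permHom (q := 2) hstar a := by
    refine Subtype.ext (Subtype.ext (Matrix.ext_of_mulVec_single fun i => ?_))
    show act (ι p) (Pi.single i 1) = act (permHom hstar a) (Pi.single i 1)
    by_cases hi : (i : ℕ) < 3
    · rw [show i = Fin.castLE (by norm_num : 3 ≤ 4) (⟨i, hi⟩ : Fin 3) from Fin.ext rfl, act_permHom, hap]
      exact (act_incl_single hstar _ _ _ _).2 (hp ▸ act_permHom hstar σ _)
    · have : ι p ∈ Sk 4 2 3 := hr ▸ ⟨_, rfl⟩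
      rw [mem_Sk.1 this i (not_lt.1 hi), act_permHom, h3 i (not_lt.1 hi)]
  rw [← hr, MonoidHom.range_eq_map, ← hgen, MonoidHom.map_closure]
  refine Subgroup.closure_mono ?_
  rw [Set.image_insert_eq, Set.image_pair]
  rintro x (rfl | rfl | rfl)
  · exact Or.inr ⟨a, h3, ha.symm⟩
  · exact Or.inl ⟨0, rfl⟩
  · exact Or.inl ⟨1, rfl⟩

end Cfsg.Agent.Small.SUPres.Two
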