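import Cfsg.Agent.Lib.Small.SUPres.Main
import Cfsg.Agent.Lib.Small.SUPres.Two.SU3

/-!
Presentations of the special unitary groups over the field with four elements.
-/

set_option autoImplicit false
set_option linter.unusedSectionVars false
set_option linter.style.haveILetI false

namespace Cfsg.Agent.Small.SUPres

open Matrix Cfsg.Agent.Small.Unitary Cfsg.Agent.Small.UCover Cfsg.Agent.Small.BoundedPres

universe u

variable {F : Type u} [Field F] [Fintype F] [StarRing F] {q : ℕ} (hstar : ∀ x : F, star x = x ^ q)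
  (hF : Fintype.card F = q ^ 2)

include hstar hF in
/-- A vertex stabiliser and an edge generate. -/
theorem top_of_edge {N : ℕ} (hN : 4 ≤ N) (M : Subgroup (Cfsg.SU N F q)) {i j : Fin N} (hij : i ≠ j)
    (hfix : ∀ g, act g (Pi.single i 1) = Pi.single i 1 → g ∈ M) {t : Cfsg.SU N F q} (ht : t ∈ M)
    (hti : act t (Pi.single i 1) = Pi.single j 1) : M = ⊤ := by
  refine eq_top_iff.2 fun g _ => ?_
  set ei : Fin N → F := Pi.single i 1
  set ej : Fin N → F := Pi.single j 1
  have hei : herm ei ei = 1 := by simp [ei, herm_single_left]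
  have hej : herm ej ej = 1 := by simp [ej, herm_single_left]
  have hij' : herm ei ej = 0 := by simp [ei, ej, herm_single_left, Pi.single_eq_of_ne hij]
  obtain ⟨w, hw, hw1⟩ := exists_unit hstar hF (on_one hei) (perpF ![ei, act g ei])
    (fun x hx k => by fin_cases k; exact (mem_perp_two.1 hx).1)
    (by have := finrank_perpF ![ei, act g ei]; omega)
  obtain ⟨hw0, hwb⟩ := mem_perp_two.1 hw
  have move : ∀ v, herm v v = 1 → herm ei v = 0 → ∃ g₁ ∈ M, act g₁ (act t ei) = v := fun v hv hv0 => by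
    obtain ⟨g₁, hg⟩ := exists_move hstar hF (on_two hei hej hij') (on_two hei hv hv0) (by omega)
    exact ⟨g₁, hfix g₁ (hg 0), by rw [hti]; exact hg 1⟩
  obtain ⟨g₁, hg₁, e₁⟩ := move w hw1 hw0
  set b' := act (g₁ * t)⁻¹ (act g ei) with hb'
  have hb'0 : herm ei b' = 0 := by
    rw [← herm_act hstar (g₁ * t), hb', act_act_inv, act_mul, e₁]
    exact herm_comm_zero hwb
  obtain ⟨g₂, hg₂, e₂⟩ := move b' (by rw [hb', herm_act hstar, herm_act hstar, hei]) hb'0
  have e : act (g₁ * t * (g₂ * t)) ei = act g ei := by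
    rw [act_mul, act_mul g₂, e₂, hb', act_act_inv]
  have hfixg : (g₁ * t * (g₂ * t))⁻¹ * g ∈ M := hfix _ (by rw [act_mul, ← e, act_inv_act])
  have := mul_mem (mul_mem (mul_mem hg₁ ht) (mul_mem hg₂ ht)) hfixg
  rwa [mul_inv_cancel_left] at this

variable {m : ℕ}

include hF in
/-- Words of level five cover the coordinate subgroup on five points. -/
theorem exists_word_five (hm : 2 ≤ m) {g : Cfsg.SU (m + 3) F q} (hg : g ∈ Sk (m + 3) q 5) :
    ∃ w ∈ Monoid.Coprod.inl.range ⊔ (lowPerm (m + 3) 5).map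
        (Monoid.Coprod.inr : alternatingGroup (Fin (m + 3)) →* Words (Cfsg.SU 4 F q) _),
      Monoid.Coprod.lift (inclHom hstar (by omega : 4 ≤ m + 3)) (permHom hstar) w = g := by
  have hn5 : 5 ≤ m + 3 := by omega
  have hn4 : 4 ≤ m + 3 := by omega
  set W := Monoid.Coprod.inl.range ⊔ (lowPerm (m + 3) 5).map
    (Monoid.Coprod.inr : alternatingGroup (Fin (m + 3)) →* Words (Cfsg.SU 4 F q) _)
  set φ := Monoid.Coprod.lift (inclHom hstar hn4) (permHom (q := q) hstar)
  let ι := inclHom (F := F) (q := q) hstar hn5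
  have hιr : ι.range = Sk (m + 3) q 5 := range_inclHom (q := q) hstar hn5
  let a : Fin (m + 3) := ⟨0, by omega⟩
  let b : Fin (m + 3) := ⟨1, by omega⟩
  let c : Fin (m + 3) := ⟨3, by omega⟩
  let d : Fin (m + 3) := ⟨4, by omega⟩
  have hab : a ≠ b := by simp [a, b, Fin.ext_iff]
  have hcd : c ≠ d := by simp [c, d, Fin.ext_iff]
  set τ := dswap a b c d hab hcd
  have hτ : τ ∈ lowPerm (m + 3) 5 := dswap_low hab hcd (by simp [a]) (by simp [b]) (by simp [c]) (by simp [d])
  obtain ⟨t, htτ⟩ : permHom (q := q) hstar τ ∈ ι.range := hιr ▸ perm_mem_Sk hstar hτ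
  let last : Fin 5 := 4
  let pen : Fin 5 := 3
  have htop := top_of_edge hstar hF (by norm_num) ((W.map φ).comap ι) (i := last) (j := pen) (by decide)
    (fun g hg => by
      have h4 : ι g ∈ (inclHom (q := q) hstar hn4).range := by
        rw [range_inclHom (q := q) hstar hn4]
        refine mem_Sk.2 fun i hi => ?_
        rcases eq_or_lt_of_le hi with e | h
        · rw [show i = Fin.castLE hn5 last from Fin.ext (by simp [last]; omega)]
          exact (act_incl_single hstar hn5 g last last).2 hg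
        · have : ι g ∈ Sk (m + 3) q 5 := hιr ▸ ⟨g, rfl⟩
          exact mem_Sk.1 this i h
      obtain ⟨x, hx⟩ := h4
      exact ⟨Monoid.Coprod.inl x, Subgroup.mem_sup_left ⟨x, rfl⟩, (Monoid.Coprod.lift_apply_inl _ _ x).trans hx⟩)
    (t := t) (by
      show ι t ∈ W.map φ
      rw [htτ]
      exact ⟨Monoid.Coprod.inr τ, Subgroup.mem_sup_right ⟨τ, hτ, rfl⟩, Monoid.Coprod.lift_apply_inr _ _ τ⟩)
    ((act_incl_single hstar hn5 t last pen).1 (by
      show act (ι t) _ = _
      rw [htτ, act_permHom, show τ.1 (Fin.castLE hn5 last) = Fin.castLE hn5 pen from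
        dswap_apply_right hab hcd (by simp [a, c, Fin.ext_iff]) (by simp [b, c, Fin.ext_iff])]))
  rw [← hιr] at hg
  obtain ⟨g', rfl⟩ := hg
  obtain ⟨w, hw, e⟩ := (htop ▸ Subgroup.mem_top g' : g' ∈ (W.map φ).comap ι)
  exact ⟨w, hw, e⟩

end Cfsg.Agent.Small.SUPres

namespace Cfsg.Agent.Small.SUPres

open Matrix Cfsg.Agent.Small.Unitary Cfsg.Agent.Small.UCover Cfsg.Agent.Small.BoundedPres

universe u

variable {F : Type u} [Field F] [Fintype F] [StarRing F] (hstar : ∀ x : F, star x = x ^ 2)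
  (hF : Fintype.card F = 2 ^ 2) {m : ℕ}

include hstar hF in
/-- The elements of one square. -/
theorem exists_square {l : F} (hl : star l * l = 1) (t : Cfsg.SU 6 F 2)
    (ht : act t (Pi.single 5 1) = Pi.single 4 1) :
    ∃ x y₁ y₂ : Cfsg.SU 6 F 2, act x (Pi.single 5 1) = Pi.single 5 1 ∧ act y₁ (Pi.single 5 1) = Pi.single 5 1 ∧
      act y₂ (Pi.single 5 1) = Pi.single 5 1 ∧
      act (t * x * t) (Pi.single 5 1) = (fun i : Fin 6 => repB i) ∧
      act (y₁ * t) (Pi.single 5 1) = (fun i : Fin 6 => repV l i) ∧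
      act (y₁ * t * y₂ * t) (Pi.single 5 1) = fun i : Fin 6 => repB i := by
  set B : Fin 6 → F := fun i => repB i with hB
  set V : Fin 6 → F := fun i => repV l i with hV
  set e5 : Fin 6 → F := Pi.single 5 1
  set e4 : Fin 6 → F := Pi.single 4 1
  have h55 : herm e5 e5 = 1 := by simp [e5, herm_single_left]
  have h44 : herm e4 e4 = 1 := by simp [e4, herm_single_left]
  have h54 : herm e5 e4 = 0 := by simp [e4, e5, herm_single_left]
  have hBB : herm B B = 1 := by simp [hB, herm, dotProduct, Fin.sum_univ_six, repB, Two.two_eq_zero hF]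
  have hVV : herm V V = 1 := by simp [hV, herm, dotProduct, Fin.sum_univ_six, repV, hl, Two.two_eq_zero hF]
  have h5V : herm e5 V = 0 := by simp [e5, hV, herm_single_left, repV]
  have h4B : herm e4 B = 0 := by simp [e4, hB, herm_single_left, repB]
  have hVB : herm V B = 0 := by simp [hV, hB, herm, dotProduct, Fin.sum_univ_six, repV, repB]
  have move : ∀ v, herm v v = 1 → herm e5 v = 0 → ∃ g : Cfsg.SU 6 F 2, act g e5 = e5 ∧ act g e4 = v := fun v h1 h2 => by
    obtain ⟨g, hg⟩ := exists_move hstar hF (on_two h55 h44 h54) (on_two h55 h1 h2) (by norm_num)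
    exact ⟨g, hg 0, hg 1⟩
  obtain ⟨y₁, hy₁, hy₁'⟩ := move V hVV h5V
  have e1 : act (y₁ * t) e5 = V := by rw [act_mul, ht, hy₁']
  obtain ⟨x, hx, hx'⟩ := move (act t⁻¹ B) (by rw [herm_act hstar, hBB])
    (by rw [← herm_act hstar t, act_act_inv, ht, h4B])
  obtain ⟨y₂, hy₂, hy₂'⟩ := move (act (y₁ * t)⁻¹ B) (by rw [herm_act hstar, hBB])
    (by rw [← herm_act hstar (y₁ * t), act_act_inv, e1, hVB])
  refine ⟨x, y₁, y₂, hx, hy₁, hy₂, ?_, e1, ?_⟩
  · rw [act_mul, act_mul, ht, hx', act_act_inv]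
  · rw [act_mul, ht, act_mul, hy₂', act_act_inv]

include hF in
/-- One square relation as a word. -/
theorem exists_square_word (hm : 3 ≤ m) {l : F} (hl : star l * l = 1) :
    ∃ R : Words (Cfsg.SU 4 F 2) (alternatingGroup (Fin (m + 3))),
      Monoid.Coprod.lift (inclHom hstar (by omega : 4 ≤ m + 3)) (permHom hstar) R = 1 ∧
      ∀ (H : Type u) [Group H] (α : Cfsg.SU 4 F 2 →* H) (β : alternatingGroup (Fin (m + 3)) →* H)
        (D : Glue F (m + 3) H hstar 4), D.μ = β → D.B = α.range →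
          (∀ x, D.π (α x) = inclHom hstar (by omega : 4 ≤ m + 3) x) → Monoid.Coprod.lift α β R = 1 →
          ∀ (a b c d : Fin (m + 3)) (hab : a ≠ b) (hcd : c ≠ d), (a : ℕ) = 0 → (b : ℕ) = 1 → (c : ℕ) = 4 →
            (d : ℕ) = 5 → ∃ x y₁ y₂ z : H, x ∈ D.Hk 5 ∧ y₁ ∈ D.Hk 5 ∧ y₂ ∈ D.Hk 5 ∧ z ∈ D.Hk 5 ∧
              D.μ (dswap a b c d hab hcd) * x * D.μ (dswap a b c d hab hcd) * z =
                y₁ * D.μ (dswap a b c d hab hcd) * y₂ * D.μ (dswap a b c d hab hcd) ∧
              act (D.π (D.μ (dswap a b c d hab hcd) * x * D.μ (dswap a b c d hab hcd))) (Pi.single d 1) =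
                (fun i : Fin (m + 3) => repB i) ∧
              act (D.π (y₁ * D.μ (dswap a b c d hab hcd))) (Pi.single d 1) = fun i : Fin (m + 3) => repV l i := by
  have hn6 : 6 ≤ m + 3 := by omega
  have hn4 : 4 ≤ m + 3 := by omega
  let a : Fin (m + 3) := ⟨0, by omega⟩
  let b : Fin (m + 3) := ⟨1, by omega⟩
  let c : Fin (m + 3) := ⟨4, by omega⟩
  let d : Fin (m + 3) := ⟨5, by omega⟩
  have hab : a ≠ b := by simp [a, b, Fin.ext_iff]
  have hcd : c ≠ d := by simp [c, d, Fin.ext_iff]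
  set τ := dswap a b c d hab hcd with hτdef
  set ι := inclHom (F := F) (q := 2) hstar hn6
  have hιr : ι.range = Sk (m + 3) 2 6 := range_inclHom (q := 2) hstar hn6
  have hτ : τ ∈ lowPerm (m + 3) 6 := dswap_low hab hcd (by simp [a]) (by simp [b]) (by simp [c]) (by simp [d])
  obtain ⟨t, htτ⟩ : permHom (q := 2) hstar τ ∈ ι.range := hιr ▸ perm_mem_Sk hstar hτ
  have hd5 : Fin.castLE hn6 (5 : Fin 6) = d := Fin.ext rfl
  have hc4 : Fin.castLE hn6 (4 : Fin 6) = c := Fin.ext rfl
  have hτd : τ.1 d = c := dswap_apply_right hab hcd (by simp [a, c, Fin.ext_iff]) (by simp [b, c, Fin.ext_iff])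
  obtain ⟨x, y₁, y₂, hx, hy₁, hy₂, eB, eV, eB'⟩ := exists_square hstar hF hl t
    ((act_incl_single hstar hn6 t 5 4).1 (by
      show act (ι t) _ = _
      rw [htτ, hd5, hc4, act_permHom, hτd]))
  set z := (t * x * t)⁻¹ * (y₁ * t * y₂ * t) with hz
  have hz5 : act z (Pi.single 5 1) = Pi.single 5 1 := by rw [hz, act_mul, eB', ← eB, act_inv_act]
  have five : ∀ g : Cfsg.SU 6 F 2, act g (Pi.single 5 1) = Pi.single 5 1 → ι g ∈ Sk (m + 3) 2 5 := fun g hg =>
    mem_Sk.2 fun i hi => by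
      rcases eq_or_lt_of_le hi with e | h
      · rw [show i = Fin.castLE hn6 (5 : Fin 6) from Fin.ext (by simp; omega)]
        exact (act_incl_single hstar hn6 g 5 5).2 hg
      · have : ι g ∈ Sk (m + 3) 2 6 := hιr ▸ ⟨g, rfl⟩
        exact mem_Sk.1 this i h
  obtain ⟨wx, hwx, ewx⟩ := exists_word_five hstar hF (by omega) (five x hx)
  obtain ⟨wy₁, hwy₁, ewy₁⟩ := exists_word_five hstar hF (by omega) (five y₁ hy₁)
  obtain ⟨wy₂, hwy₂, ewy₂⟩ := exists_word_five hstar hF (by omega) (five y₂ hy₂)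
  obtain ⟨wz, hwz, ewz⟩ := exists_word_five hstar hF (by omega) (five z hz5)
  let T : Words (Cfsg.SU 4 F 2) (alternatingGroup (Fin (m + 3))) := Monoid.Coprod.inr τ
  refine ⟨T * wx * T * wz * (wy₁ * T * wy₂ * T)⁻¹, ?_, ?_⟩
  · simp only [map_mul, map_inv, T, Monoid.Coprod.lift_apply_inr, ewx, ewy₁, ewy₂, ewz, ← htτ]
    simp only [← map_mul, ← map_inv]
    rw [hz, mul_inv_cancel_left, mul_inv_cancel, map_one]
  intro H _ α β D hμ hB hπα hR a' b' c' d' hab' hcd' ha' hb' hc' hd'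
  obtain rfl : a' = a := Fin.ext ha'
  obtain rfl : b' = b := Fin.ext hb'
  obtain rfl : c' = c := Fin.ext hc'
  obtain rfl : d' = d := Fin.ext hd'
  subst hμ
  set L := Monoid.Coprod.lift α D.μ
  have hmem : ∀ w ∈ Monoid.Coprod.inl.range ⊔ (lowPerm (m + 3) 5).map
      (Monoid.Coprod.inr : alternatingGroup (Fin (m + 3)) →* Words (Cfsg.SU 4 F 2) _), L w ∈ D.Hk 5 := by
    intro w hw
    have hle : Monoid.Coprod.inl.range ⊔ (lowPerm (m + 3) 5).map
        (Monoid.Coprod.inr : alternatingGroup (Fin (m + 3)) →* Words (Cfsg.SU 4 F 2) _) ≤ (D.Hk 5).comap L := by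
      refine sup_le ?_ (Subgroup.map_le_iff_le_comap.2 fun σ hσ => ?_)
      · rintro _ ⟨y, rfl⟩
        show L (Monoid.Coprod.inl y) ∈ D.Hk 5
        rw [show L (Monoid.Coprod.inl y) = α y from Monoid.Coprod.lift_apply_inl _ _ y]
        exact Subgroup.mem_sup_left (hB ▸ ⟨y, rfl⟩)
      · show L (Monoid.Coprod.inr σ) ∈ D.Hk 5
        rw [show L (Monoid.Coprod.inr σ) = D.μ σ from Monoid.Coprod.lift_apply_inr _ _ σ]
        exact D.μ_mem hσ
    exact hle hw
  have hL : ∀ w, D.π (L w) = Monoid.Coprod.lift (inclHom hstar hn4) (permHom hstar) w := fun w =>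
    DFunLike.congr_fun (Monoid.Coprod.hom_ext
      (f := D.π.comp L) (g := Monoid.Coprod.lift (inclHom hstar hn4) (permHom hstar))
      (MonoidHom.ext fun y => by simp [L, hπα]) (MonoidHom.ext fun σ => by simp [L, D.perm])) w
  have hT : L T = D.μ τ := Monoid.Coprod.lift_apply_inr _ _ τ
  have img : ∀ (g : Cfsg.SU 6 F 2) (f : ℕ → F), (∀ i, 6 ≤ i → f i = 0) →
      act g (Pi.single 5 1) = (fun i : Fin 6 => f i) → act (ι g) (Pi.single d 1) = fun i : Fin (m + 3) => f i :=
    fun g f hf hg => by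
      rw [← hd5, ← incl_mulVec_single hn6, act_inclHom, hg, incl_mulVec_val f hf]
  refine ⟨L wx, L wy₁, L wy₂, L wz, hmem _ hwx, hmem _ hwy₁, hmem _ hwy₂, hmem _ hwz, ?_, ?_, ?_⟩
  · have := hR
    simp only [map_mul, map_inv, mul_inv_eq_one] at this
    rwa [hT] at this
  · rw [← hT, ← map_mul L, ← map_mul L, hL]
    simp only [map_mul, T, Monoid.Coprod.lift_apply_inr, ewx, ← htτ]
    rw [← map_mul ι, ← map_mul ι]
    exact img _ _ (fun i hi => by simp [repB]; omega) eB
  · rw [← hT, ← map_mul L, hL]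
    simp only [map_mul, T, Monoid.Coprod.lift_apply_inr, ewy₁, ← htτ]
    rw [← map_mul ι]
    exact img _ _ (fun i hi => by rw [repV, if_neg (by omega), if_neg (by omega)]) eV

include hstar hF in
/-- Five or more dimensions over the field with four elements. -/
theorem presN_SU_two (m : ℕ) (hm : 2 ≤ m) :
    PresN 6 (Cfsg.SU (m + 3) F 2) (if m = 2 then 28 else 36) := by
  classical
  obtain ⟨f₁, h₁⟩ := U4.presOn_SU4 hstar hF
  rw [if_pos rfl] at h₁
  obtain ⟨E, hE, hEgen⟩ := Two.exists_three_gens_two hstar hF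
  have hcard : Fintype.card (Fin 4 ⊕ Fin 2) = 6 := by simp
  by_cases h2 : m = 2
  · subst h2
    obtain ⟨f₂, h₂⟩ := PresOn.exists_of_presN (alt_base_pres 3 Nat.prime_three le_rfl)
    have := (presOn_glue_extra hstar hF le_rfl h₁ h₂ E hE hEgen (s := 0) Fin.elim0 (fun i => i.elim0)
      fun _ _ _ _ _ _ _ _ _ => Or.inr ⟨rfl, fun h => absurd h (by norm_num)⟩).presN
    rw [hcard] at this
    exact this.mono (by norm_num)
  · have hm3 : 3 ≤ m := by omega
    obtain ⟨f₂, h₂⟩ := PresOn.exists_of_presN (alt_two (m + 3) (by omega))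
    choose R hR hR' using fun l : Fˣ => exists_square_word hstar hF hm3 (Two.norm_one hstar hF l.ne_zero)
    let eU := (Fintype.equivFinOfCardEq (α := Fˣ) (n := 3) (by rw [Fintype.card_units, hF]; rfl)).symm
    have := (presOn_glue_extra hstar hF hm h₁ h₂ E hE hEgen (s := 3) (fun i => R (eU i)) (fun i => hR (eU i))
      fun H _ α β D hμ hB hπ hrel => Or.inr ⟨rfl, fun _ a b c d hab hcd ha hb hc hd l hl => by
        have hl0 : l ≠ 0 := fun h => by simp [h] at hl
        exact hR' (Units.mk0 l hl0) H α β D hμ hB hπ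
          (by have := hrel (eU.symm (Units.mk0 l hl0)); rwa [Equiv.apply_symm_apply] at this)
          a b c d hab hcd ha hb hc hd⟩).presN
    rw [hcard] at this
    exact this.mono (by rw [if_neg h2, if_neg h2])

end Cfsg.Agent.Small.SUPres
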